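import Cfsg.Agent.Lib.RegularTop.Series

/-!
# The free orbit on a quotient with a unique fixed point
-/

set_option autoImplicit false

namespace Cfsg.Agent.Lib.RegularTop

open scoped commutatorElement

variable {T : Type*} [Group T] [Finite T]

/-- A normal subgroup beyond a term of the upper central series contains the next term. -/
theorem Z_succ_le (hT : IsPGroup 2 T) {i : ℕ} (hc : Nat.card (Z (i + 1) : Subgroup T) = 2 * Nat.card (Z i : Subgroup T))
    (N : Subgroup T) [hN : N.Normal] (hle : (Z i : Subgroup T) ≤ N) (hne : ¬ N ≤ Z i) :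
    (Z (i + 1) : Subgroup T) ≤ N := by
  haveI : Fact (Nat.Prime 2) := ⟨Nat.prime_two⟩
  obtain ⟨n, hn⟩ := Subgroup.nilpotent_iff_lowerCentralSeries.1 (hT.isNilpotent)
  by_contra hcon
  have hinf : N ⊓ Z (i + 1) ≤ Z i := by
    by_contra h
    apply hcon
    have h1 : (Z i : Subgroup T) ≤ N ⊓ Z (i + 1) :=
      le_inf hle (Subgroup.upperCentralSeries_mono (G := T) (Nat.le_succ i))
    have h2 : Nat.card (Z i : Subgroup T) < Nat.card (N ⊓ Z (i + 1) : Subgroup T) := by
      by_contra h3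
      exact h (Subgroup.eq_of_le_of_card_ge h1 (not_lt.mp h3)).ge
    obtain ⟨a, ha⟩ := exists_card_eq hT (Z i : Subgroup T)
    obtain ⟨b, hb⟩ := exists_card_eq hT (N ⊓ Z (i + 1) : Subgroup T)
    rw [ha, hb] at h2
    have hab := (Nat.pow_lt_pow_iff_right (by norm_num : 1 < 2)).mp h2
    have h4 : Nat.card (Z (i + 1) : Subgroup T) ≤ Nat.card (N ⊓ Z (i + 1) : Subgroup T) := by
      rw [hc, ha, hb, ← pow_succ']
      exact Nat.pow_le_pow_right (by norm_num) hab
    exact (Subgroup.eq_of_le_of_card_ge inf_le_right h4).ge.trans inf_le_left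
  have key : ∀ d m, m + d = n → (⊤ : Subgroup T).lowerCentralSeries m ⊓ N ≤ Z i := by
    intro d
    induction d with
    | zero => intro m hm; rw [show m = n by omega, hn]; exact inf_le_left.trans bot_le
    | succ d ih =>
      intro m hm x hx
      refine hinf ⟨hx.2, Subgroup.mem_upperCentralSeries_succ_iff.mpr fun y => ih (m + 1) (by omega) ⟨?_, ?_⟩⟩
      · exact Subgroup.commutator_mem_commutator hx.1 (Subgroup.mem_top y)
      · exact Subgroup.commutator_le_left N ⊤ (Subgroup.commutator_mem_commutator hx.2 (Subgroup.mem_top y))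
  exact hne (by simpa using key n 0 (by omega))

variable (W : Subgroup T) [hW : W.Normal] (H : Subgroup ↥W)

/-- The coordinates of an element on the cosets. -/
noncomputable def coord (hH : H.index = 2) : ↥W →* Multiplicative (T ⧸ W → ZMod 2) := by
  classical
  exact MonoidHom.mk' (fun w => Multiplicative.ofAdd fun q =>
    if (⟨q.out * (w : T) * q.out⁻¹, hW.conj_mem _ w.2 _⟩ : ↥W) ∈ H then 0 else 1) (by
    intro a b
    refine Multiplicative.toAdd.injective (funext fun q => ?_)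
    show _ = (if _ then (0 : ZMod 2) else 1) + (if _ then (0 : ZMod 2) else 1)
    have e : (⟨q.out * ((a * b : ↥W) : T) * q.out⁻¹, hW.conj_mem _ (a * b).2 _⟩ : ↥W) =
        ⟨q.out * (a : T) * q.out⁻¹, hW.conj_mem _ a.2 _⟩ * ⟨q.out * (b : T) * q.out⁻¹, hW.conj_mem _ b.2 _⟩ :=
      Subtype.ext (show q.out * ((a : T) * b) * q.out⁻¹ = q.out * a * q.out⁻¹ * (q.out * b * q.out⁻¹) by group)
    simp only [toAdd_ofAdd, e, Subgroup.mul_mem_iff_of_index_two hH]
    split_ifs <;> simp_all <;> decide)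

omit [Finite T] in
theorem mem_conj_iff (hH : H.index = 2) (a w : ↥W) : a * w * a⁻¹ ∈ H ↔ w ∈ H := by
  rw [Subgroup.mul_mem_iff_of_index_two hH, Subgroup.mul_mem_iff_of_index_two hH, H.inv_mem_iff]
  tauto

omit [Finite T] in
theorem coord_conj (hH : H.index = 2) (g : T) (w : ↥W) (q : T ⧸ W) :
    Multiplicative.toAdd (coord W H hH ⟨g * (w : T) * g⁻¹, hW.conj_mem _ w.2 _⟩) q =
      Multiplicative.toAdd (coord W H hH w) (q * (g : T ⧸ W)) := by
  classical
  have hq : (q.out * g : T)⁻¹ * (q * (g : T ⧸ W)).out ∈ W := by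
    rw [← QuotientGroup.eq, QuotientGroup.mk_mul, QuotientGroup.out_eq', QuotientGroup.out_eq']
  have hiff : (⟨q.out * (g * (w : T) * g⁻¹) * q.out⁻¹, hW.conj_mem _ (hW.conj_mem _ w.2 _) _⟩ : ↥W) ∈ H ↔
      (⟨(q * (g : T ⧸ W)).out * (w : T) * (q * (g : T ⧸ W)).out⁻¹, hW.conj_mem _ w.2 _⟩ : ↥W) ∈ H := by
    set o := (q * (g : T ⧸ W)).out
    set a : ↥W := ⟨q.out * g * ((q.out * g)⁻¹ * o) * (q.out * g)⁻¹, hW.conj_mem _ hq _⟩
    rw [← mem_conj_iff W H hH a]
    refine Iff.of_eq (congrArg (· ∈ H) (Subtype.ext ?_))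
    show q.out * g * ((q.out * g)⁻¹ * o) * (q.out * g)⁻¹ * (q.out * (g * w * g⁻¹) * q.out⁻¹) *
      (q.out * g * ((q.out * g)⁻¹ * o) * (q.out * g)⁻¹)⁻¹ = o * w * o⁻¹
    group
  show (if _ then (0 : ZMod 2) else 1) = if _ then (0 : ZMod 2) else 1
  by_cases h : (⟨(q * (g : T ⧸ W)).out * (w : T) * (q * (g : T ⧸ W)).out⁻¹, hW.conj_mem _ w.2 _⟩ : ↥W) ∈ H
  · rw [if_pos h, if_pos (hiff.mpr h)]
  · rw [if_neg h, if_neg (fun h' => h (hiff.mp h'))]

theorem coord_ker (hT : IsPGroup 2 T) (hH : H.index = 2) (Φ : Subgroup T) [Φ.Normal]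
    (hΦH : ∀ w : ↥W, (w : T) ∈ Φ → w ∈ H) {x : ↥W} (hx : x ∉ H)
    (hmin : ∀ N : Subgroup T, N.Normal → Φ ≤ N → ¬ N ≤ Φ → (x : T) ∈ N) (hΦW : Φ ≤ W) :
    (coord W H hH).ker = Φ.subgroupOf W := by
  classical
  set K := (coord W H hH).ker
  have hKn : (K.map W.subtype).Normal := by
    constructor
    rintro _ ⟨w, hw, rfl⟩ g
    refine ⟨⟨g * (w : T) * g⁻¹, hW.conj_mem _ w.2 _⟩, ?_, rfl⟩
    refine Multiplicative.toAdd.injective (funext fun q => ?_)
    rw [coord_conj, MonoidHom.mem_ker.mp hw]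
    rfl
  have hle : Φ.subgroupOf W ≤ K := by
    intro w hw
    refine Multiplicative.toAdd.injective (funext fun q => ?_)
    show (if _ then (0 : ZMod 2) else 1) = 0
    rw [if_pos (hΦH _ (‹Φ.Normal›.conj_mem _ hw _))]
  refine le_antisymm ?_ hle
  intro w hw
  by_contra hwΦ
  have hxK := hmin (K.map W.subtype) hKn (fun y hy => ⟨⟨y, hΦW hy⟩, hle hy, rfl⟩)
    (fun h => hwΦ (h ⟨w, hw, rfl⟩))
  obtain ⟨u, hu, hux⟩ := hxK
  obtain rfl : u = x := Subtype.ext hux
  have h1 := congrFun (congrArg Multiplicative.toAdd (MonoidHom.mem_ker.mp hu)) ((1 : T ⧸ W))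
  apply hx
  by_contra hxH
  have h2 : (⟨(1 : T ⧸ W).out * (u : T) * (1 : T ⧸ W).out⁻¹, hW.conj_mem _ u.2 _⟩ : ↥W) ∉ H := by
    have ho : (1 : T ⧸ W).out ∈ W := by
      rw [← QuotientGroup.eq_one_iff, QuotientGroup.out_eq']
    exact fun h => hxH ((mem_conj_iff W H hH ⟨_, ho⟩ u).mp h)
  change (if _ then (0 : ZMod 2) else 1) = 0 at h1
  rw [if_neg h2] at h1
  exact one_ne_zero h1

theorem card_le (hT : IsPGroup 2 T) (hH : H.index = 2) (Φ : Subgroup T) [Φ.Normal]
    (hΦH : ∀ w : ↥W, (w : T) ∈ Φ → w ∈ H) {x : ↥W} (hx : x ∉ H)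
    (hmin : ∀ N : Subgroup T, N.Normal → Φ ≤ N → ¬ N ≤ Φ → (x : T) ∈ N) (hΦW : Φ ≤ W) :
    Nat.card W = Nat.card Φ * Nat.card (coord W H hH).range ∧
      Nat.card (coord W H hH).range ≤ 2 ^ W.index := by
  classical
  constructor
  · rw [← (coord W H hH).ker.card_mul_index, Subgroup.index_ker, coord_ker W H hT hH Φ hΦH hx hmin hΦW,
      Nat.card_congr (Subgroup.subgroupOfEquivOfLe hΦW).toEquiv]
  · refine (Subgroup.card_le_card_group _).trans (le_of_eq ?_)
    rw [Nat.card_congr Multiplicative.toAdd, Nat.card_fun, Nat.card_zmod, Subgroup.index_eq_card]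

/-- A subgroup containing a delta family and the kernel is everything. -/
theorem eq_top_of_deltas (hH : H.index = 2) (U : Subgroup ↥W) (hker : (coord W H hH).ker ≤ U)
    (hd : ∀ q : T ⧸ W, ∃ v ∈ U, Multiplicative.toAdd (coord W H hH v) = fun r =>
      letI := Classical.decEq (T ⧸ W); if r = q then 1 else 0) : U = ⊤ := by
  classical
  letI := Fintype.ofFinite (T ⧸ W)
  rw [eq_top_iff]
  intro w _
  let A : AddSubgroup (T ⧸ W → ZMod 2) :=
    { carrier := {c | ∃ u ∈ U, Multiplicative.toAdd (coord W H hH u) = c}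
      zero_mem' := ⟨1, one_mem _, by rw [map_one]; rfl⟩
      add_mem' := fun {a b} ⟨u, hu, hua⟩ ⟨u', hu', hub⟩ => ⟨u * u', mul_mem hu hu', by rw [map_mul, ← hua, ← hub]; rfl⟩
      neg_mem' := fun {a} ⟨u, hu, hua⟩ => ⟨u⁻¹, inv_mem hu, by rw [map_inv, ← hua]; rfl⟩ }
  have hmem : Multiplicative.toAdd (coord W H hH w) ∈ A := by
    rw [← Finset.univ_sum_single (Multiplicative.toAdd (coord W H hH w))]
    refine A.sum_mem fun q _ => ?_
    rcases (by decide : ∀ c : ZMod 2, c = 0 ∨ c = 1) (Multiplicative.toAdd (coord W H hH w) q) with h | h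
    · rw [h, Pi.single_zero]; exact zero_mem _
    · obtain ⟨v, hv, hvc⟩ := hd q
      refine ⟨v, hv, ?_⟩
      rw [hvc, h]
      funext r
      simp [Pi.single_apply]
  obtain ⟨u, hu, huw⟩ := hmem
  have hk : u⁻¹ * w ∈ (coord W H hH).ker := by
    rw [MonoidHom.mem_ker, map_mul, map_inv, Multiplicative.toAdd.injective huw, inv_mul_cancel]
  simpa using mul_mem hu (hker hk)

/-- The value of a functional on an element with all coordinates one. -/
theorem sum_deltas (hH : H.index = 2) [Fintype (T ⧸ W)] (hs : Function.Surjective (coord W H hH))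
    (φ : ↥W →* Multiplicative (ZMod 2)) (hφ : (coord W H hH).ker ≤ φ.ker) {x : ↥W}
    (hx : Multiplicative.toAdd (coord W H hH x) = fun _ => 1) (v : T ⧸ W → ↥W)
    (hv : ∀ q, Multiplicative.toAdd (coord W H hH (v q)) = fun r =>
      letI := Classical.decEq (T ⧸ W); if r = q then 1 else 0) :
    Multiplicative.toAdd (φ x) = ∑ q, Multiplicative.toAdd (φ (v q)) := by
  classical
  let L := (coord W H hH).liftOfSurjective hs ⟨φ, hφ⟩
  have hL : ∀ w, L (coord W H hH w) = φ w := fun w =>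
    MonoidHom.liftOfRightInverse_comp_apply _ _ _ _ w
  let L' : (T ⧸ W → ZMod 2) →+ ZMod 2 :=
    { toFun := fun c => Multiplicative.toAdd (L (Multiplicative.ofAdd c))
      map_zero' := by simp
      map_add' := fun a b => by rw [ofAdd_add, map_mul, toAdd_mul] }
  have hL' : ∀ w, L' (Multiplicative.toAdd (coord W H hH w)) = Multiplicative.toAdd (φ w) := fun w => by
    show Multiplicative.toAdd (L _) = _
    rw [ofAdd_toAdd, hL]
  rw [← hL', hx, ← Finset.univ_sum_single (fun _ : T ⧸ W => (1 : ZMod 2)), map_sum]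
  refine Finset.sum_congr rfl fun q _ => ?_
  rw [← hL', hv]
  congr 1
  funext r
  simp [Pi.single_apply]

end Cfsg.Agent.Lib.RegularTop
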