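import Cfsg.Agent.Lib.RegularTop.Series
import Cfsg.Agent.Lib.PGroups.UnitriangularFour

/-!
# Unitriangular coordinates for the action on a uniserial group of order eight
-/

set_option autoImplicit false

namespace Cfsg.Agent.Lib.RegularTop

open Cfsg.Agent.Lib.PGroups.UniFour

variable {T : Type*} [Group T] [Finite T]

/-- A chosen basis of the third centre. -/
structure Basis (T : Type*) [Group T] where
  e0 : T
  e1 : T
  e2 : T
  h0 : e0 * e0 = 1
  h1 : e1 * e1 = 1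
  h2 : e2 * e2 = 1
  h01 : Commute e0 e1
  h02 : Commute e0 e2
  h12 : Commute e1 e2
  cen : ∀ g : T, g * e0 * g⁻¹ = e0
  ne0 : e0 ≠ 1
  ne1 : ¬ ∃ i : ZMod 2, e1 = pw e0 i
  ne2 : ¬ ∃ i j : ZMod 2, e2 = pw e1 i * pw e0 j

variable (B : Basis T)

/-- The action of `g` in coordinates. -/
def Act (g : T) (p : ZMod 2 × ZMod 2 × ZMod 2) : Prop :=
  g * B.e1 * g⁻¹ = B.e1 * pw B.e0 p.1 ∧ g * B.e2 * g⁻¹ = B.e2 * (pw B.e1 p.2.1 * pw B.e0 p.2.2)

omit [Finite T] in
theorem Act.mul {g h : T} {p q : ZMod 2 × ZMod 2 × ZMod 2} (hg : Act B g p) (hh : Act B h q) :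
    Act B (g * h) (p.1 + q.1, p.2.1 + q.2.1, p.2.2 + q.2.2 + p.1 * q.2.1) := by
  obtain ⟨g1, g2⟩ := hg
  obtain ⟨k1, k2⟩ := hh
  have gp : ∀ u i, g * pw u i * g⁻¹ = pw (g * u * g⁻¹) i := fun u i => pw_map (MulAut.conj g).toMonoidHom u i
  constructor
  · calc g * h * B.e1 * (g * h)⁻¹ = g * (h * B.e1 * h⁻¹) * g⁻¹ := by group
      _ = (g * B.e1 * g⁻¹) * (g * pw B.e0 q.1 * g⁻¹) := by rw [k1]; group
      _ = B.e1 * pw B.e0 (p.1 + q.1) := by rw [g1, gp, B.cen, pw_add B.h0, mul_assoc]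
  · have hsplit : pw (B.e1 * pw B.e0 p.1) q.2.1 = pw B.e1 q.2.1 * pw B.e0 (p.1 * q.2.1) := by
      rw [pw_mul (show Commute B.e1 (pw B.e0 p.1) by simpa using pw_commute B.h01.symm 1 p.1)]
      congr 1
      rcases zmod_two_cases p.1 with h | h <;> rcases zmod_two_cases q.2.1 with h' | h' <;> simp [h, h']
    calc g * h * B.e2 * (g * h)⁻¹ = g * (h * B.e2 * h⁻¹) * g⁻¹ := by group
      _ = (g * B.e2 * g⁻¹) * ((g * pw B.e1 q.2.1 * g⁻¹) * (g * pw B.e0 q.2.2 * g⁻¹)) := by rw [k2]; group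
      _ = B.e2 * (pw B.e1 p.2.1 * pw B.e0 p.2.2) *
          ((pw B.e1 q.2.1 * pw B.e0 (p.1 * q.2.1)) * pw B.e0 q.2.2) := by
          rw [g2, gp, g1, gp, B.cen, hsplit]
      _ = B.e2 * ((pw B.e1 p.2.1 * pw B.e1 q.2.1) *
          (pw B.e0 p.2.2 * pw B.e0 q.2.2 * pw B.e0 (p.1 * q.2.1))) := by
          rw [mul_assoc B.e2]
          congr 1
          have c1 := (pw_commute B.h01 p.2.2 q.2.1).eq
          have c2 := (pw_commute (Commute.refl B.e0) (p.1 * q.2.1) q.2.2).eq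
          calc pw B.e1 p.2.1 * pw B.e0 p.2.2 * (pw B.e1 q.2.1 * pw B.e0 (p.1 * q.2.1) * pw B.e0 q.2.2)
              = pw B.e1 p.2.1 * (pw B.e0 p.2.2 * pw B.e1 q.2.1) * (pw B.e0 (p.1 * q.2.1) * pw B.e0 q.2.2) := by
                group
            _ = _ := by rw [c1, c2]; group
      _ = _ := by rw [pw_add B.h1, pw_add B.h0, pw_add B.h0]

omit [Finite T] in
theorem Act.unique {g : T} {p q : ZMod 2 × ZMod 2 × ZMod 2} (hg : Act B g p) (hq : Act B g q) : p = q := by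
  obtain ⟨g1, g2⟩ := hg
  obtain ⟨k1, k2⟩ := hq
  obtain ⟨i, j, k⟩ := p
  obtain ⟨i', j', k'⟩ := q
  dsimp only at *
  have hi : i = i' := by
    have h := mul_left_cancel (g1.symm.trans k1)
    rcases zmod_two_cases i with rfl | rfl <;> rcases zmod_two_cases i' with rfl | rfl <;> simp at h ⊢
    · exact B.ne0 h.symm
    · exact B.ne0 h
  have h := mul_left_cancel (g2.symm.trans k2)
  have hj : j = j' := by
    rcases zmod_two_cases j with rfl | rfl <;> rcases zmod_two_cases j' with rfl | rfl <;> simp at h ⊢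
    · refine B.ne1 ⟨k + k', ?_⟩
      rw [pw_add B.h0, h, mul_assoc, ← pw_add B.h0, CharTwo.add_self_eq_zero, pw_zero, mul_one]
    · refine B.ne1 ⟨k' + k, ?_⟩
      rw [pw_add B.h0, ← h, mul_assoc, ← pw_add B.h0, CharTwo.add_self_eq_zero, pw_zero, mul_one]
  subst hi hj
  have h' := mul_left_cancel h
  congr
  rcases zmod_two_cases k with rfl | rfl <;> rcases zmod_two_cases k' with rfl | rfl <;> simp at h' ⊢
  · exact B.ne0 h'.symm
  · exact B.ne0 h'

end Cfsg.Agent.Lib.RegularTop
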