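import Cfsg.Agent.Lib.RegularTop.Bound
import Cfsg.Agent.Lib.RegularTop.Coord

/-!
# The invariant form on the regular module
-/

set_option autoImplicit false

namespace Cfsg.Agent.Lib.RegularTop

open scoped commutatorElement
open Cfsg.Agent.Lib.PGroups.UniFour

attribute [local instance] _root_.Classical.propDecidable

variable {T : Type*} [Group T] [Finite T] (W : Subgroup T) [hW : W.Normal] (P : Subgroup T) [hP : P.Normal]

/-- The data: `Q` is a normal subgroup of index two in `P`, and `P` is central in `W` containing all squares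
and commutators of `W`. -/
structure Data (Q : Subgroup T) where
  hPW : P ≤ W
  cent : ∀ w ∈ W, ∀ p ∈ P, w * p = p * w
  hQP : Q ≤ P
  idx : (Q.subgroupOf P).index = 2
  Qn : Q.Normal
  triv : ∀ g : T, ∀ z ∈ P, z⁻¹ * (g * z * g⁻¹) ∈ Q
  comm : ∀ a ∈ W, ∀ b ∈ W, ⁅a, b⁆ ∈ P
  sq : ∀ a ∈ W, a * a ∈ P

variable {W P} {Q : Subgroup T}

/-- The functional on `P`. -/
noncomputable def mu (Q : Subgroup T) (z : T) : ZMod 2 := if z ∈ Q then 0 else 1

omit [Finite T] in
theorem mu_of_mem {z : T} (h : z ∈ Q) : mu Q z = 0 := by rw [mu, if_pos h]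

omit [Finite T] hW hP in
theorem Data.mu_mul (d : Data W P Q) {a b : T} (ha : a ∈ P) (hb : b ∈ P) :
    mu Q (a * b) = mu Q a + mu Q b := by
  have h := Subgroup.mul_mem_iff_of_index_two d.idx (a := ⟨a, ha⟩) (b := ⟨b, hb⟩)
  simp only [Subgroup.mem_subgroupOf, Subgroup.coe_mul] at h
  unfold mu
  split_ifs <;> simp_all <;> decide

omit [Finite T] hW in
theorem Data.mu_conj (d : Data W P Q) (g : T) {z : T} (hz : z ∈ P) : mu Q (g * z * g⁻¹) = mu Q z := by
  have h0 : mu Q (z⁻¹ * (g * z * g⁻¹)) = 0 := mu_of_mem (d.triv g z hz)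
  have h : g * z * g⁻¹ = z * (z⁻¹ * (g * z * g⁻¹)) := by group
  conv_lhs => rw [h]
  rw [d.mu_mul hz (mul_mem (inv_mem hz) (hP.conj_mem z hz g)), h0, add_zero]

/-- The form. -/
noncomputable def form (Q : Subgroup T) (a b : T) : ZMod 2 := mu Q ⁅a, b⁆

omit [Finite T] hW hP in
theorem Data.form_mul_left (d : Data W P Q) {a b c : T} (ha : a ∈ W) (hb : b ∈ W) (hc : c ∈ W) :
    form Q (a * b) c = form Q a c + form Q b c := by
  have h : ⁅a * b, c⁆ = ⁅b, c⁆ * ⁅a, c⁆ := by
    rw [show ⁅a * b, c⁆ = a * ⁅b, c⁆ * a⁻¹ * ⁅a, c⁆ by simp only [commutatorElement_def]; group,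
      d.cent a ha _ (d.comm b hb c hc), mul_inv_cancel_right]
  rw [form, h, d.mu_mul (d.comm b hb c hc) (d.comm a ha c hc), add_comm]; rfl

omit [Finite T] hW hP in
theorem Data.form_symm (d : Data W P Q) {a b : T} (ha : a ∈ W) (hb : b ∈ W) : form Q a b = form Q b a := by
  have h := d.mu_mul (d.comm a ha b hb) (d.comm b hb a ha)
  rw [← commutatorElement_inv b a, inv_mul_cancel] at h
  rw [show mu Q (1 : T) = 0 from mu_of_mem (one_mem Q)] at h
  unfold form
  rw [← commutatorElement_inv b a]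
  calc mu Q ⁅b, a⁆⁻¹ = mu Q ⁅b, a⁆⁻¹ + mu Q ⁅b, a⁆ + mu Q ⁅b, a⁆ := by
        rw [add_assoc, CharTwo.add_self_eq_zero, add_zero]
    _ = mu Q ⁅b, a⁆ := by rw [← h, zero_add]

omit [Finite T] hW hP in
theorem Data.form_mul_right (d : Data W P Q) {a b c : T} (ha : a ∈ W) (hb : b ∈ W) (hc : c ∈ W) :
    form Q c (a * b) = form Q c a + form Q c b := by
  rw [d.form_symm hc (mul_mem ha hb), d.form_mul_left ha hb hc, d.form_symm ha hc, d.form_symm hb hc]

omit [Finite T] hW hP in
theorem Data.form_P (d : Data W P Q) {a p : T} (ha : a ∈ W) (hp : p ∈ P) : form Q a p = 0 := by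
  rw [form, commutatorElement_eq_one_iff_mul_comm.mpr (d.cent a ha p hp)]
  exact mu_of_mem (one_mem Q)

omit [Finite T] in
theorem Data.form_conj (d : Data W P Q) (g : T) {a b : T} (ha : a ∈ W) (hb : b ∈ W) :
    form Q (g * a * g⁻¹) (g * b * g⁻¹) = form Q a b := by
  unfold form
  rw [show ⁅g * a * g⁻¹, g * b * g⁻¹⁆ = g * ⁅a, b⁆ * g⁻¹ by simp only [commutatorElement_def]; group]
  exact d.mu_conj g (d.comm a ha b hb)

omit hW in
/-- An element of a subgroup with vanishing form and squares cuts out an avoiding subgroup. -/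
theorem Data.exists_avoiding (d : Data W P Q) (U : Subgroup ↥W)
    (hPU : ∀ w : ↥W, (w : T) ∈ P → w ∈ U) (hform : ∀ a ∈ U, ∀ b ∈ U, form Q (a : T) (b : T) = 0) :
    ∃ S : Subgroup ↥W, S.index ≤ 4 * U.index ∧ ¬ ∀ w : ↥W, (w : T) ∈ P → w ∈ S := by
  classical
  let s : ↥U →* Multiplicative (ZMod 2) := MonoidHom.mk'
    (fun a => Multiplicative.ofAdd (mu Q ((a.1 : T) * (a.1 : T)))) (by
    intro a b
    rw [← ofAdd_add]
    congr 1
    set x := (a.1 : T)
    set y := (b.1 : T)
    have hx : x ∈ W := a.1.2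
    have hy : y ∈ W := b.1.2
    show mu Q (x * y * (x * y)) = mu Q (x * x) + mu Q (y * y)
    have hc := d.comm _ (inv_mem hx) y hy
    rw [show x * y * (x * y) = x * x * ⁅x⁻¹, y⁆ * (y * y) by simp only [commutatorElement_def]; group,
      d.mu_mul (mul_mem (d.sq x hx) hc) (d.sq y hy), d.mu_mul (d.sq x hx) hc]
    have h0 : mu Q ⁅x⁻¹, y⁆ = 0 := hform _ (inv_mem a.2) _ b.2
    rw [h0, add_zero])
  set U0 : Subgroup ↥W := s.ker.map U.subtype with hU0
  have hU0i : U0.index ≤ 2 * U.index := by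
    rw [hU0, Subgroup.index_map_subtype, Subgroup.index_ker]
    refine Nat.mul_le_mul_right _ ((Subgroup.card_le_card_group _).trans ?_)
    rw [Nat.card_congr Multiplicative.toAdd, Nat.card_zmod]
  have hU0U : U0 ≤ U := Subgroup.map_subtype_le _
  have hsqU0 : ∀ w ∈ U0, ((w : T) * (w : T)) ∈ Q := by
    rintro _ ⟨a, ha, rfl⟩
    have h1 := congrArg Multiplicative.toAdd (MonoidHom.mem_ker.mp ha)
    change mu Q _ = 0 at h1
    show (a.1 : T) * (a.1 : T) ∈ Q
    by_contra h
    rw [mu, if_neg h] at h1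
    exact one_ne_zero h1
  have hcommU0 : ∀ a ∈ U0, ∀ b ∈ U0, ⁅(a : T), (b : T)⁆ ∈ Q := by
    intro a ha b hb
    have h1 := hform a (hU0U ha) b (hU0U hb)
    by_contra h
    rw [form, mu, if_neg h] at h1
    exact one_ne_zero h1
  have hPU0 : ∀ w : ↥W, (w : T) ∈ P → w ∈ U0 := by
    intro w hw
    refine ⟨⟨w, hPU w hw⟩, ?_, rfl⟩
    show Multiplicative.ofAdd (mu Q ((w : T) * w)) = 1
    rw [d.mu_mul hw hw, CharTwo.add_self_eq_zero]; rfl
  obtain ⟨e, he, heQ⟩ : ∃ e ∈ P, e ∉ Q := by
    by_contra! h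
    have := d.idx
    rw [Subgroup.subgroupOf_eq_top.mpr h, Subgroup.index_top] at this
    omega
  let e' : ↥W := ⟨e, d.hPW he⟩
  obtain ⟨S, hS⟩ := Set.Finite.exists_maximal
    (Set.toFinite {S : Subgroup ↥W | S ≤ U0 ∧ Q.subgroupOf W ≤ S ∧ e' ∉ S})
    ⟨Q.subgroupOf W, fun w hw => hPU0 w (d.hQP hw), le_rfl, heQ⟩
  obtain ⟨⟨hSU, hQS, heS⟩, hmax⟩ := hS
  have hSn : ∀ w ∈ U0, ∀ x ∈ S, w * x * w⁻¹ ∈ S := by
    intro w hw x hx
    rw [show w * x * w⁻¹ = ⁅w, x⁆ * x by simp only [commutatorElement_def]; group]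
    exact mul_mem (hQS (hcommU0 w hw x (hSU hx))) hx
  have hcases : ∀ w ∈ U0, w ∈ S ∨ e'⁻¹ * w ∈ S := by
    intro w hw
    by_cases hwS : w ∈ S
    · exact Or.inl hwS
    right
    have hw2 : w * w ∈ S := hQS (hsqU0 w hw)
    have hwi : ∀ x, x ∈ S → w * x * w⁻¹ ∈ S := hSn w hw
    have hwi' : ∀ x, x ∈ S → w⁻¹ * x * w ∈ S := fun x hx => by
      simpa using hSn w⁻¹ (inv_mem hw) x hx
    let S' : Subgroup ↥W :=
      { carrier := {x | x ∈ S ∨ w⁻¹ * x ∈ S}
        one_mem' := Or.inl (one_mem _)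
        mul_mem' := by
          rintro x y (hx | hx) (hy | hy)
          · exact Or.inl (mul_mem hx hy)
          · refine Or.inr ?_
            have := mul_mem (hwi' x hx) hy
            convert this using 1
            group
          · exact Or.inr (by rw [← mul_assoc]; exact mul_mem hx hy)
          · refine Or.inl ?_
            have := mul_mem (mul_mem (hwi _ hx) hw2) hy
            convert this using 1
            group
        inv_mem' := by
          rintro x (hx | hx)
          · exact Or.inl (inv_mem hx)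
          · refine Or.inr ?_
            have := mul_mem (hwi' _ (inv_mem hx)) (inv_mem hw2)
            convert this using 1
            group }
    by_contra hcon
    have hS'U : S' ≤ U0 := by
      rintro x (hx | hx)
      · exact hSU hx
      · simpa using mul_mem hw (hSU hx)
    have he' : e' ∉ S' := by
      rintro (h | h)
      · exact heS h
      · apply hcon
        have := inv_mem h
        rwa [mul_inv_rev, inv_inv] at this
    exact hwS (hmax ⟨hS'U, fun x hx => Or.inl (hQS hx), he'⟩ (fun x hx => Or.inl hx)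
      (Or.inr (by rw [inv_mul_cancel]; exact one_mem _)))
  refine ⟨S, ?_, fun h => heS (h e' he)⟩
  have hrel : S.relIndex U0 ≤ 2 := by
    rw [Subgroup.relIndex, Subgroup.index_eq_card]
    refine (Nat.card_le_card_of_surjective (fun b : Bool =>
      ((if b then ⟨e', hPU0 e' he⟩ else 1 : ↥U0) : ↥U0 ⧸ S.subgroupOf U0)) ?_).trans (by simp)
    intro q
    induction q using QuotientGroup.induction_on with
    | _ w =>
      rcases hcases w w.2 with h | h
      · exact ⟨false, QuotientGroup.eq.mpr (by simpa [Subgroup.mem_subgroupOf] using h)⟩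
      · exact ⟨true, QuotientGroup.eq.mpr (by simpa [Subgroup.mem_subgroupOf] using h)⟩
  rw [← Subgroup.relIndex_mul_index hSU]
  calc S.relIndex U0 * U0.index ≤ 2 * (2 * U.index) := Nat.mul_le_mul hrel hU0i
    _ = _ := by ring

/-- The main point: a central element with all coordinates one gives a large isotropic subgroup. -/
theorem Data.exists_isotropic (d : Data W P Q) (B : Basis T) (hQ : ∀ i j, pw B.e1 i * pw B.e0 j ∈ Q)
    (hPB : ∀ z ∈ P, ∃ l j k : ZMod 2, z = pw B.e2 l * (pw B.e1 j * pw B.e0 k))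
    (hact : ∀ g : T, ∃ p, Act B g p) (hinj : ∀ g h p, Act B g p → Act B h p → g⁻¹ * h ∈ W)
    (hsurj : ∀ p, ∃ g : T, Act B g p)
    {H : Subgroup ↥W} (hH : H.index = 2) (hker : (coord W H hH).ker = P.subgroupOf W)
    (hs : Function.Surjective (coord W H hH)) {x : ↥W} (hx : ∀ w : ↥W, (x : T) * w = w * x)
    (hx1 : Multiplicative.toAdd (coord W H hH x) = fun _ => 1) :
    ∃ U : Subgroup ↥W, (∀ w : ↥W, (w : T) ∈ P → w ∈ U) ∧
      (∀ a ∈ U, ∀ b ∈ U, form Q (a : T) (b : T) = 0) ∧ U.index ≤ 4 := by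
  obtain ⟨v0, hv0⟩ := hs (Multiplicative.ofAdd fun r : T ⧸ W => if r = 1 then (1 : ZMod 2) else 0)
  have hv0' : Multiplicative.toAdd (coord W H hH v0) = fun r : T ⧸ W => if r = 1 then (1 : ZMod 2) else 0 := by
    rw [hv0, toAdd_ofAdd]
  let cj : T → ↥W := fun g => ⟨g * (v0 : T) * g⁻¹, hW.conj_mem _ v0.2 _⟩
  have hcong : ∀ g h : T, g⁻¹ * h ∈ W → ∃ z ∈ P, (cj h : T) = (cj g : T) * z := by
    intro g h hgh
    refine ⟨g * ⁅(v0 : T)⁻¹, g⁻¹ * h⁆ * g⁻¹, hP.conj_mem _ (d.comm _ (inv_mem v0.2) _ hgh) _, ?_⟩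
    show h * (v0 : T) * h⁻¹ = g * v0 * g⁻¹ * _
    simp only [commutatorElement_def]; group
  choose g hg using hsurj
  let β : ZMod 2 × ZMod 2 × ZMod 2 → ZMod 2 := fun p => form Q (v0 : T) (cj (g p) : T)
  have hβ : ∀ h p, Act B h p → form Q (v0 : T) (cj h : T) = β p := by
    intro h p hp
    obtain ⟨z, hz, e⟩ := hcong (g p) h (hinj _ _ _ (hg p) hp)
    rw [e, d.form_mul_right (cj (g p)).2 (d.hPW hz) v0.2, d.form_P v0.2 hz, add_zero]
  have hone : Act B (1 : T) (0, 0, 0) := by constructor <;> simp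
  have hpair : ∀ a b, ∃ r, Act B ((g a)⁻¹ * g b) r ∧
      form Q (cj (g a) : T) (cj (g b) : T) = β r ∧
      b.1 = a.1 + r.1 ∧ b.2.1 = a.2.1 + r.2.1 ∧ b.2.2 = a.2.2 + r.2.2 + a.1 * r.2.1 := by
    intro a b
    obtain ⟨r, hr⟩ := hact ((g a)⁻¹ * g b)
    refine ⟨r, hr, ?_, ?_⟩
    · rw [← hβ _ _ hr, ← d.form_conj (g a) v0.2 (cj _).2]
      congr 1
      show g b * (v0 : T) * (g b)⁻¹ = g a * ((g a)⁻¹ * g b * v0 * ((g a)⁻¹ * g b)⁻¹) * (g a)⁻¹
      group
    · have h := Act.mul B (hg a) hr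
      rw [mul_inv_cancel_left] at h
      have e := Act.unique B (hg b) h
      exact ⟨congrArg (·.1) e, congrArg (·.2.1) e, congrArg (·.2.2) e⟩
  -- the form vanishes on the stabiliser of the second basis vector
  have hA : ∀ j k, β (0, j, k) = 0 := by
    intro j k
    by_cases hjk : j = 0 ∧ k = 0
    · obtain ⟨rfl, rfl⟩ := hjk
      rw [← hβ 1 _ hone]
      simp [cj, form, mu]
    set a := g (0, j, k)
    obtain ⟨a1, a2⟩ := hg (0, j, k)
    have ha2 : a * a ∈ W := by
      have h := Act.mul B (hg (0, j, k)) (hg (0, j, k))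
      simp only [zero_mul, add_zero, CharTwo.add_self_eq_zero] at h
      simpa using hinj 1 (a * a) _ hone h
    set u := ⁅(v0 : T), (cj a : T)⁆
    have huP : u ∈ P := d.comm _ v0.2 _ (cj a).2
    have hfix : a * u * a⁻¹ = u⁻¹ := by
      obtain ⟨z, hz, e⟩ := hcong 1 (a * a) (by simpa using ha2)
      have h1 : (cj 1 : T) = v0 := by simp [cj]
      rw [h1] at e
      calc a * u * a⁻¹ = ⁅(cj a : T), (cj (a * a) : T)⁆ := by
            simp only [u, cj, commutatorElement_def]; group
        _ = ⁅(cj a : T), (v0 : T)⁆ := by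
            rw [e, show ⁅(cj a : T), (v0 : T) * z⁆ = ⁅(cj a : T), (v0 : T)⁆ * ((v0 : T) * ⁅(cj a : T), z⁆ * (v0 : T)⁻¹) by
              simp only [commutatorElement_def]; group,
              commutatorElement_eq_one_iff_mul_comm.mpr (d.cent _ (cj a).2 z hz)]
            group
        _ = u⁻¹ := (commutatorElement_inv _ _).symm
    show mu Q u = 0
    obtain ⟨l, j', k', hu⟩ := hPB u huP
    rcases zmod_two_cases l with rfl | rfl
    · rw [hu, pw_zero, one_mul]
      exact mu_of_mem (hQ _ _)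
    exfalso
    have hc0 : ∀ i, Commute (pw B.e0 i) B.e1 := fun i => by simpa using pw_commute B.h01 i 1
    have hc1 : ∀ i, Commute (pw B.e1 i) B.e2 := fun i => by simpa using pw_commute B.h12 i 1
    have hc2 : ∀ i, Commute (pw B.e0 i) B.e2 := fun i => by simpa using pw_commute B.h02 i 1
    have hu2 : u⁻¹ = u := by
      rw [hu, pw_one]
      refine inv_eq_of_mul_eq_one_right ?_
      calc B.e2 * (pw B.e1 j' * pw B.e0 k') * (B.e2 * (pw B.e1 j' * pw B.e0 k'))
          = B.e2 * ((pw B.e1 j' * pw B.e0 k') * B.e2) * (pw B.e1 j' * pw B.e0 k') := by group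
        _ = (B.e2 * B.e2) * ((pw B.e1 j' * pw B.e1 j') * (pw B.e0 k' * pw B.e0 k')) := by
            rw [((hc1 j').mul_left (hc2 k')).eq]
            have := (pw_commute B.h01 k' j').eq
            calc B.e2 * (B.e2 * (pw B.e1 j' * pw B.e0 k')) * (pw B.e1 j' * pw B.e0 k')
                = B.e2 * B.e2 * (pw B.e1 j' * (pw B.e0 k' * pw B.e1 j') * pw B.e0 k') := by group
              _ = _ := by rw [this]; group
        _ = 1 := by
            rw [B.h2, ← pw_add B.h1, ← pw_add B.h0, CharTwo.add_self_eq_zero, CharTwo.add_self_eq_zero,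
              pw_zero, pw_zero, one_mul, one_mul]
    rw [hu2] at hfix
    have hgp : ∀ w i, a * pw w i * a⁻¹ = pw (a * w * a⁻¹) i := fun w i => pw_map (MulAut.conj a).toMonoidHom w i
    have h3 : a * B.e2 * a⁻¹ = B.e2 := by
      have e : a * u * a⁻¹ = (a * B.e2 * a⁻¹) * ((a * pw B.e1 j' * a⁻¹) * (a * pw B.e0 k' * a⁻¹)) := by
        rw [hu, pw_one]; group
      rw [hgp, hgp, a1, B.cen, pw_zero, mul_one, hfix] at e
      rw [hu, pw_one] at e
      exact (mul_right_cancel e).symm
    rw [a2] at h3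
    refine hjk ?_
    have h4 : Act B a (0, 0, 0) := ⟨by rw [a1], by rw [a2, h3]; simp⟩
    have := Act.unique B (hg (0, j, k)) h4
    simpa using this
  -- the sum over everything vanishes
  have hsum : ∑ p, β p = 0 := by
    letI := Fintype.ofFinite (T ⧸ W)
    let φ : ↥W →* Multiplicative (ZMod 2) := MonoidHom.mk'
      (fun w => Multiplicative.ofAdd (form Q (v0 : T) (w : T))) (fun a b => by
        rw [← ofAdd_add]; congr 1; exact d.form_mul_right a.2 b.2 v0.2)
    have hφ : (coord W H hH).ker ≤ φ.ker := fun w hw => by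
      rw [hker] at hw
      show Multiplicative.ofAdd (form Q (v0 : T) (w : T)) = 1
      rw [d.form_P v0.2 (Subgroup.mem_subgroupOf.mp hw)]; rfl
    let idx : ZMod 2 × ZMod 2 × ZMod 2 → T ⧸ W := fun p => ((g p : T) : T ⧸ W)⁻¹
    have hidx : Function.Bijective idx := by
      constructor
      · intro p q h
        have h' : (g p)⁻¹ * g q ∈ W := QuotientGroup.eq.mp (inv_injective h)
        obtain ⟨r, hr⟩ := hact ((g p)⁻¹ * g q)
        have hr0 : r = (0, 0, 0) := by
          have hw : ∀ w ∈ W, ∀ z ∈ P, w * z * w⁻¹ = z := fun w hw z hz => by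
            rw [d.cent w hw z hz, mul_inv_cancel_right]
          refine Act.unique B hr ⟨?_, ?_⟩
          · rw [hw _ h' _ (by simpa using d.hQP (hQ 1 0))]; simp
          · have he2 : B.e2 ∈ P := by
              obtain ⟨e, he, heQ⟩ : ∃ e ∈ P, e ∉ Q := by
                by_contra! hh
                have := d.idx
                rw [Subgroup.subgroupOf_eq_top.mpr hh, Subgroup.index_top] at this
                omega
              obtain ⟨l, j, k, rfl⟩ := hPB e he
              rcases zmod_two_cases l with rfl | rfl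
              · exact absurd (by simpa using hQ j k) heQ
              · have := mul_mem he (inv_mem (d.hQP (hQ j k)))
                rwa [mul_inv_cancel_right, pw_one] at this
            rw [hw _ h' _ he2]; simp
        subst hr0
        have := Act.mul B (hg p) hr
        rw [mul_inv_cancel_left] at this
        simpa using (Act.unique B (hg q) this).symm
      · intro q
        obtain ⟨p, hp⟩ := hact q⁻¹.out
        refine ⟨p, ?_⟩
        show ((g p : T) : T ⧸ W)⁻¹ = q
        rw [QuotientGroup.eq.mpr (hinj _ _ _ (hg p) hp), QuotientGroup.out_eq', inv_inv]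
    let e := Equiv.ofBijective idx hidx
    have hv : ∀ q, Multiplicative.toAdd (coord W H hH (cj (g (e.symm q)))) = fun r =>
        if r = q then 1 else 0 := by
      intro q
      funext r
      rw [coord_conj, hv0']
      have hq : ((g (e.symm q) : T) : T ⧸ W)⁻¹ = q := e.apply_symm_apply q
      have hiff : r * ((g (e.symm q) : T) : T ⧸ W) = 1 ↔ r = q := by
        rw [mul_eq_one_iff_eq_inv, hq]
      simp only [hiff]
    have h := sum_deltas W H hH hs φ hφ hx1 (fun q => cj (g (e.symm q))) (fun q => by convert hv q)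
    have h0 : Multiplicative.toAdd (φ x) = 0 := by
      show form Q (v0 : T) (x : T) = 0
      rw [form, commutatorElement_eq_one_iff_mul_comm.mpr (hx v0).symm]
      exact mu_of_mem (one_mem Q)
    rw [h0] at h
    rw [h]
    refine Fintype.sum_equiv e _ _ fun p => ?_
    show β p = form Q (v0 : T) (cj (g (e.symm (e p))) : T)
    rw [e.symm_apply_apply]
  have h110 : β (1, 1, 0) = β (1, 1, 1) := by
    have hm := Act.mul B (hg (1, 1, 0)) (hg (1, 1, 1))
    have e0 : ((1 : ZMod 2) + 1, (1 : ZMod 2) + 1, (0 : ZMod 2) + 1 + 1 * 1) = (0, 0, 0) := by decide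
    rw [e0] at hm
    obtain ⟨z, hz, e⟩ := hcong 1 (g (1, 1, 0) * g (1, 1, 1)) (by simpa using hinj 1 _ _ hone hm)
    show form Q (v0 : T) (cj (g (1, 1, 0)) : T) = form Q (v0 : T) (cj (g (1, 1, 1)) : T)
    rw [← d.form_conj (g (1, 1, 0)) v0.2 (cj (g (1, 1, 1))).2,
      d.form_symm v0.2 (cj _).2]
    have e' : g (1, 1, 0) * (cj (g (1, 1, 1)) : T) * (g (1, 1, 0))⁻¹ = (v0 : T) * z := by
      have : (cj 1 : T) = v0 := by simp [cj]
      rw [this] at e
      rw [← e]
      simp only [cj]; group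
    rw [e', d.form_mul_right v0.2 (d.hPW hz) (cj _).2, d.form_P (cj _).2 hz, add_zero]
  have hflip : ∀ j k, β (1, j, k) + β (1, j, k + 1) = 0 := by
    have h2 : ∀ f : ZMod 2 → ZMod 2, ∑ i, f i = f 0 + f 1 := fun f => Fin.sum_univ_two f
    simp only [Fintype.sum_prod_type, h2, hA, add_zero, zero_add] at hsum
    rw [h110, CharTwo.add_self_eq_zero, add_zero] at hsum
    intro j k
    have e11 : (1 : ZMod 2) + 1 = 0 := by decide
    rcases zmod_two_cases j with rfl | rfl <;> rcases zmod_two_cases k with rfl | rfl <;>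
      simp only [zero_add, e11]
    · exact hsum
    · rw [add_comm]; exact hsum
    · rw [h110, CharTwo.add_self_eq_zero]
    · rw [h110, CharTwo.add_self_eq_zero]
  -- the isotropic subgroup
  let V : ZMod 2 × ZMod 2 × ZMod 2 → ↥W := fun p => cj (g p)
  let S : Set ↥W := {w | (w : T) ∈ P} ∪ Set.range (fun jk : ZMod 2 × ZMod 2 => V (0, jk)) ∪
    Set.range (fun j : ZMod 2 => V (1, j, 0) * V (1, j, 1))
  set U := Subgroup.closure S with hU
  refine ⟨U, fun w hw => Subgroup.subset_closure (Or.inl (Or.inl hw)), ?_, ?_⟩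
  · have key : ∀ a : ↥W, ∀ j : ZMod 2, ∀ b, a = V b →
        form Q (a : T) ((V (1, j, 0) * V (1, j, 1) : ↥W) : T) = 0 := by
      rintro _ j b rfl
      rw [Subgroup.coe_mul, d.form_mul_right (V _).2 (V _).2 (V _).2]
      obtain ⟨r, -, hr, r1, r2, r3⟩ := hpair b (1, j, 0)
      obtain ⟨r', -, hr', s1, s2, s3⟩ := hpair b (1, j, 1)
      show form Q (cj _ : T) (cj _ : T) + form Q (cj _ : T) (cj _ : T) = 0
      rw [hr, hr']
      obtain ⟨i, j0, k0⟩ := b
      obtain ⟨ri, rj, rk⟩ := r
      obtain ⟨si, sj, sk⟩ := r'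
      dsimp only at r1 r2 r3 s1 s2 s3
      obtain rfl : si = ri := add_left_cancel (s1.symm.trans r1)
      obtain rfl : sj = rj := add_left_cancel (s2.symm.trans r2)
      obtain rfl : sk = rk + 1 := by linear_combination r3 - s3
      rcases zmod_two_cases si with rfl | rfl
      · rw [hA, hA, add_zero]
      · exact hflip _ _
    have hgen : ∀ a ∈ S, ∀ b ∈ S, form Q (a : T) (b : T) = 0 := by
      intro a ha b hb
      rcases ha with (ha | ⟨ja, rfl⟩) | ⟨ja, rfl⟩
      · rw [d.form_symm a.2 b.2, d.form_P b.2 ha]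
      all_goals rcases hb with (hb | ⟨jb, rfl⟩) | ⟨jb, rfl⟩
      · exact d.form_P (V _).2 hb
      · obtain ⟨r, -, hr, r1, -, -⟩ := hpair (0, ja) (0, jb)
        obtain ⟨ri, rj, rk⟩ := r
        dsimp only at r1
        rw [zero_add] at r1
        subst r1
        exact hr.trans (hA rj rk)
      · exact key _ jb _ rfl
      · exact d.form_P (V _ * V _).2 hb
      · rw [d.form_symm (V _ * V _).2 (V _).2]
        exact key _ ja _ rfl
      · show form Q (((V (1, ja, 0) * V (1, ja, 1) : ↥W)) : T) _ = 0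
        rw [Subgroup.coe_mul, d.form_mul_left (V _).2 (V _).2 (V _ * V _).2, key _ jb _ rfl, key _ jb _ rfl,
          add_zero]
    intro a ha b hb
    induction ha using Subgroup.closure_induction with
    | mem a ha =>
      induction hb using Subgroup.closure_induction with
      | mem b hb => exact hgen a ha b hb
      | one => exact d.form_P a.2 (one_mem P)
      | mul b c _ _ ihb ihc => rw [Subgroup.coe_mul, d.form_mul_right b.2 c.2 a.2, ihb, ihc, add_zero]
      | inv b _ ih =>
        have h := d.form_mul_right b.2 (inv_mem b.2) a.2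
        rw [mul_inv_cancel, d.form_P a.2 (one_mem P), ih, zero_add] at h
        exact h.symm
    | one => rw [Subgroup.coe_one, d.form_symm (one_mem W) b.2]; exact d.form_P b.2 (one_mem P)
    | mul a c _ _ iha ihc => rw [Subgroup.coe_mul, d.form_mul_left a.2 c.2 b.2, iha, ihc, add_zero]
    | inv a _ ih =>
      have h := d.form_mul_left a.2 (inv_mem a.2) b.2
      rw [mul_inv_cancel, d.form_symm (one_mem W) b.2, d.form_P b.2 (one_mem P), ih, zero_add] at h
      exact h.symm
  · -- index at most four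
    have hcommU : ∀ a b : ↥W, ⁅a, b⁆ ∈ U := fun a b =>
      Subgroup.subset_closure (Or.inl (Or.inl (d.comm a a.2 b b.2)))
    have hsqU : ∀ a : ↥W, a * a ∈ U := fun a =>
      Subgroup.subset_closure (Or.inl (Or.inl (d.sq a a.2)))
    haveI : U.Normal := ⟨fun u hu a => by
      rw [show a * u * a⁻¹ = ⁅a, u⁆ * u by simp only [commutatorElement_def]; group]
      exact mul_mem (hcommU a u) hu⟩
    let π := QuotientGroup.mk' U
    have hsq1 : ∀ q : ↥W ⧸ U, q * q = 1 := fun q => by
      obtain ⟨a, rfl⟩ := QuotientGroup.mk_surjective q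
      exact (QuotientGroup.eq_one_iff _).mpr (hsqU a)
    have hcm : ∀ q r : ↥W ⧸ U, q * r = r * q := fun q r => by
      have h := hsq1 (q * r)
      calc q * r = (q * r)⁻¹ := (inv_eq_of_mul_eq_one_right h).symm
        _ = r * q := by
          rw [mul_inv_rev, inv_eq_of_mul_eq_one_right (hsq1 q), inv_eq_of_mul_eq_one_right (hsq1 r)]
    let f : ZMod 2 × ZMod 2 → ↥W ⧸ U := fun ab => pw (π (V (1, 0, 0))) ab.1 * pw (π (V (1, 1, 0))) ab.2
    have hfmul : ∀ x y, f x * f y = f (x + y) := fun x y => by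
      simp only [f, Prod.fst_add, Prod.snd_add, pw_add (hsq1 _)]
      rw [mul_assoc, ← mul_assoc (pw _ x.2), hcm (pw _ x.2) (pw _ y.1)]
      group
    let K : Subgroup ↥W :=
      { carrier := {w | ∃ x, f x = π w}
        one_mem' := ⟨0, by simp [f]⟩
        mul_mem' := fun {a b} ⟨x, hx⟩ ⟨y, hy⟩ => ⟨x + y, by rw [← hfmul, hx, hy, map_mul]⟩
        inv_mem' := fun {a} ⟨x, hx⟩ => ⟨x, by
          rw [map_inv, hx]; exact (inv_eq_of_mul_eq_one_right (hsq1 _)).symm⟩ }
    have hUK : U ≤ K := fun u hu => ⟨0, by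
      rw [show π u = 1 from (QuotientGroup.eq_one_iff u).mpr hu]; simp [f]⟩
    have hK : K = ⊤ := by
      refine eq_top_of_deltas W H hH K (fun w hw => hUK (Subgroup.subset_closure (Or.inl (Or.inl ?_)))) ?_
      · rw [hker] at hw; exact hw
      intro q
      obtain ⟨p, hp⟩ := hact q⁻¹.out
      refine ⟨V p, ?_, ?_⟩
      · obtain ⟨i, j, k⟩ := p
        rcases zmod_two_cases i with rfl | rfl
        · exact hUK (Subgroup.subset_closure (Or.inl (Or.inr ⟨(j, k), rfl⟩)))
        · have hbase : V (1, j, 0) ∈ K := by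
            rcases zmod_two_cases j with rfl | rfl
            · exact ⟨(1, 0), by simp [f]⟩
            · exact ⟨(0, 1), by simp [f]⟩
          rcases zmod_two_cases k with rfl | rfl
          · exact hbase
          · have h0 : V (1, j, 0) * V (1, j, 1) ∈ U := Subgroup.subset_closure (Or.inr ⟨j, rfl⟩)
            have := mul_mem (inv_mem hbase) (hUK h0)
            simpa using this
      · funext r
        rw [coord_conj, hv0']
        have hq : ((g p : T) : T ⧸ W)⁻¹ = q := by
          rw [QuotientGroup.eq.mpr (hinj _ _ _ (hg p) hp), QuotientGroup.out_eq', inv_inv]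
        have hiff : r * ((g p : T) : T ⧸ W) = 1 ↔ r = q := by
          rw [mul_eq_one_iff_eq_inv, hq]
        simp only [hiff]; split_ifs <;> rfl
    rw [Subgroup.index_eq_card]
    refine (Nat.card_le_card_of_surjective f fun q => ?_).trans (by simp [Nat.card_prod, Nat.card_zmod])
    obtain ⟨w, rfl⟩ := QuotientGroup.mk_surjective q
    exact (hK ▸ Subgroup.mem_top w : w ∈ K)

end Cfsg.Agent.Lib.RegularTop
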