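import Mathlib.GroupTheory.Frattini
import Mathlib.GroupTheory.Nilpotent
import Mathlib.GroupTheory.Sylow
import Mathlib.GroupTheory.IndexNormal
import Cfsg.Agent.Lib.InvChar.CentralQuaternion

/-!
# Small normal subgroups and the upper central series of a two-group
-/

set_option autoImplicit false

namespace Cfsg.Agent.Lib.RegularTop

open scoped commutatorElement

variable {T : Type*} [Group T] [Finite T]

theorem coatom_facts (hT : IsPGroup 2 T) {M : Subgroup T} (hM : IsCoatom M) :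
    M.index = 2 ∧ M.Normal ∧ (∀ x, x * x ∈ M) ∧ ∀ x y : T, ⁅x, y⁆ ∈ M := by
  have h2 := InvChar.index_coatom hT hM
  have hinv : ∀ a : T, a⁻¹ ∈ M ↔ a ∈ M := fun a => M.inv_mem_iff
  refine ⟨h2, Subgroup.normal_of_index_eq_two h2, fun x => ?_, fun x y => ?_⟩
  · rw [Subgroup.mul_mem_iff_of_index_two h2]
  · rw [commutatorElement_def, Subgroup.mul_mem_iff_of_index_two h2, Subgroup.mul_mem_iff_of_index_two h2,
      Subgroup.mul_mem_iff_of_index_two h2, hinv, hinv]
    tauto

theorem mem_frattini_iff {x : T} : x ∈ frattini T ↔ ∀ M : Subgroup T, IsCoatom M → x ∈ M := by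
  simp [frattini, Order.radical, Subgroup.mem_iInf]

theorem sq_mem_frattini (hT : IsPGroup 2 T) (x : T) : x * x ∈ frattini T :=
  mem_frattini_iff.mpr fun _ hM => (coatom_facts hT hM).2.2.1 x

theorem comm_mem_frattini (hT : IsPGroup 2 T) (x y : T) : ⁅x, y⁆ ∈ frattini T :=
  mem_frattini_iff.mpr fun _ hM => (coatom_facts hT hM).2.2.2 x y

/-- The upper central series. -/
abbrev Z (n : ℕ) : Subgroup T := Subgroup.upperCentralSeries T n

theorem Z_lt (hT : IsPGroup 2 T) {n : ℕ} (h : (Z n : Subgroup T) ≠ ⊤) : (Z n : Subgroup T) < Z (n + 1) := by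
  haveI : Fact (Nat.Prime 2) := ⟨Nat.prime_two⟩
  refine lt_of_le_of_ne (fun x hx => Subgroup.mem_upperCentralSeries_succ_iff.mpr fun y => ?_) ?_
  · have hn : (Z n : Subgroup T).Normal := inferInstance
    rw [commutatorElement_def]
    have := mul_mem hx (hn.conj_mem _ (inv_mem hx) y)
    simpa [mul_assoc] using this
  · intro he
    haveI : Nontrivial (T ⧸ (Z n : Subgroup T)) := QuotientGroup.nontrivial_iff.mpr h
    have hc := (hT.to_quotient (Z n : Subgroup T)).center_nontrivial
    obtain ⟨⟨c, hc⟩, hne⟩ := exists_ne (1 : Subgroup.center (T ⧸ (Z n : Subgroup T)))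
    obtain ⟨x, rfl⟩ := QuotientGroup.mk_surjective c
    have hx : x ∈ (Z (n + 1) : Subgroup T) := by
      show x ∈ Subgroup.upperCentralSeriesStep (Z n : Subgroup T)
      rw [Subgroup.upperCentralSeriesStep_eq_comap_center]
      exact hc
    rw [← he] at hx
    exact hne (Subtype.ext ((QuotientGroup.eq_one_iff x).mpr hx))

theorem exists_card_eq (hT : IsPGroup 2 T) (H : Subgroup T) : ∃ k, Nat.card H = 2 ^ k := by
  haveI : Fact (Nat.Prime 2) := ⟨Nat.prime_two⟩
  exact IsPGroup.iff_card.mp (hT.to_subgroup H)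

theorem card_lt (hT : IsPGroup 2 T) {n : ℕ} (h : (Z n : Subgroup T) ≠ ⊤) :
    2 * Nat.card (Z n : Subgroup T) ≤ Nat.card (Z (n + 1) : Subgroup T) := by
  have hlt := Z_lt hT h
  have h1 : Nat.card (Z n : Subgroup T) < Nat.card (Z (n + 1) : Subgroup T) := by
    by_contra hle
    exact hlt.ne (Subgroup.eq_of_le_of_card_ge hlt.le (not_lt.mp hle))
  obtain ⟨a, ha⟩ := exists_card_eq hT (Z n : Subgroup T)
  obtain ⟨b, hb⟩ := exists_card_eq hT (Z (n + 1) : Subgroup T)
  rw [ha, hb] at h1 ⊢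
  have hab := (Nat.pow_lt_pow_iff_right (by norm_num : 1 < 2)).mp h1
  calc 2 * 2 ^ a = 2 ^ (a + 1) := by ring
    _ ≤ 2 ^ b := Nat.pow_le_pow_right (by norm_num) hab

theorem card_Z (hT : IsPGroup 2 T) (h16 : Nat.card (Z 4 : Subgroup T) = 16) (hbig : 16 < Nat.card T)
    {i : ℕ} (hi : i ≤ 4) : Nat.card (Z i : Subgroup T) = 2 ^ i := by
  have hne : ∀ j, j ≤ 4 → (Z j : Subgroup T) ≠ ⊤ := by
    intro j hj he
    have : (Z j : Subgroup T) ≤ Z 4 := Subgroup.upperCentralSeries_mono (G := T) hj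
    have h1 := Subgroup.card_le_of_le this
    rw [he, Subgroup.card_top, h16] at h1
    omega
  have h0 : Nat.card (Z 0 : Subgroup T) = 1 := by simp [Z]
  have a0 := card_lt hT (hne 0 (by norm_num))
  have a1 := card_lt hT (hne 1 (by norm_num))
  have a2 := card_lt hT (hne 2 (by norm_num))
  have a3 := card_lt hT (hne 3 (by norm_num))
  simp only [zero_add, Nat.reduceAdd] at a0 a1 a2 a3
  interval_cases i
  · simpa using h0
  all_goals omega

theorem normal_le_Z (hT : IsPGroup 2 T) : ∀ (i : ℕ) (N : Subgroup T), N.Normal → Nat.card N = 2 ^ i →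
    N ≤ Z i := by
  intro i
  induction i with
  | zero =>
    intro N _ hc
    rw [Subgroup.eq_bot_of_card_eq N (by simpa using hc)]
    exact bot_le
  | succ k ih =>
    intro N hN hc
    haveI : Fact (Nat.Prime 2) := ⟨Nat.prime_two⟩
    haveI : Group.IsNilpotent T := hT.isNilpotent
    have hle : ⁅N, (⊤ : Subgroup T)⁆ ≤ N := Subgroup.commutator_le_left N ⊤
    have hlt : ⁅N, (⊤ : Subgroup T)⁆ < N := by
      refine lt_of_le_of_ne hle fun he => ?_
      obtain ⟨n, hn⟩ := Subgroup.nilpotent_iff_lowerCentralSeries.1 (inferInstance : Group.IsNilpotent T)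
      have key : ∀ m, N ≤ (⊤ : Subgroup T).lowerCentralSeries m := by
        intro m
        induction m with
        | zero => rw [Subgroup.lowerCentralSeries_zero]; exact le_top
        | succ m ihm => exact he.ge.trans (Subgroup.commutator_mono ihm le_rfl)
      rw [le_bot_iff.mp (hn ▸ key n : N ≤ ⊥), Subgroup.card_bot] at hc
      exact absurd hc.symm (Nat.one_lt_pow (by omega) (by norm_num)).ne'
    have hD : (⁅N, (⊤ : Subgroup T)⁆).subgroupOf N ≠ ⊤ := fun h =>
      hlt.not_ge (Subgroup.subgroupOf_eq_top.mp h)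
    obtain ⟨M, hM, hDM⟩ := (eq_top_or_exists_le_coatom _).resolve_left hD
    obtain ⟨h2, -, -, -⟩ := coatom_facts (hT.to_subgroup N) hM
    have hMN : M.map N.subtype ≤ N := Subgroup.map_subtype_le M
    have hDM' : ⁅N, (⊤ : Subgroup T)⁆ ≤ M.map N.subtype := fun x hx =>
      ⟨⟨x, hle hx⟩, hDM hx, rfl⟩
    have hMn : (M.map N.subtype).Normal := ⟨fun m hm g => by
      have h1 : ⁅g, m⁆ ∈ M.map N.subtype := by
        refine hDM' ?_
        rw [Subgroup.commutator_comm]
        exact Subgroup.commutator_mem_commutator (Subgroup.mem_top g) (hMN hm)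
      have h3 := mul_mem h1 hm
      rwa [commutatorElement_def, inv_mul_cancel_right] at h3⟩
    have hMc : Nat.card (M.map N.subtype) = 2 ^ k := by
      rw [Subgroup.card_map_of_injective N.subtype_injective]
      have h4 := M.card_mul_index
      rw [h2, hc, pow_succ] at h4
      omega
    intro x hx
    exact Subgroup.mem_upperCentralSeries_succ_iff.mpr fun y => ih _ hMn hMc
      (hDM' (Subgroup.commutator_mem_commutator hx (Subgroup.mem_top y)))

theorem normal_eq_Z (hT : IsPGroup 2 T) (h16 : Nat.card (Z 4 : Subgroup T) = 16) (hbig : 16 < Nat.card T)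
    {i : ℕ} (hi : i ≤ 4) (N : Subgroup T) [N.Normal] (hN : Nat.card N = 2 ^ i) : N = Z i :=
  Subgroup.eq_of_le_of_card_ge (normal_le_Z hT i N inferInstance hN)
    (le_of_eq (by rw [card_Z hT h16 hbig hi, hN]))

theorem eq_Z_of_le (hT : IsPGroup 2 T) (h16 : Nat.card (Z 4 : Subgroup T) = 16) (hbig : 16 < Nat.card T)
    (N : Subgroup T) [N.Normal] (hN : Nat.card N ≤ 16) : ∃ i, i ≤ 4 ∧ Nat.card N = 2 ^ i ∧ N = Z i := by
  obtain ⟨k, hk⟩ := exists_card_eq hT N
  have hk4 : k ≤ 4 := by
    rw [hk, show (16 : ℕ) = 2 ^ 4 by norm_num] at hN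
    exact (Nat.pow_le_pow_iff_right (by norm_num)).mp hN
  exact ⟨k, hk4, hk, normal_eq_Z hT h16 hbig hk4 N hk⟩

end Cfsg.Agent.Lib.RegularTop
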